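import Cfsg.Agent.Lib.AltSylowDecomp.Orbits

/-!
# The sizes of the orbits
-/

set_option autoImplicit false
set_option linter.unusedSectionVars false

namespace CfsgLib.AltSylowDecomp

open Equiv Equiv.Perm

variable {α : Type*} [Fintype α] [DecidableEq α] {T : Sylow 2 (Perm α)} {z : Perm α}

open Classical in
/-- the orbit as a finset -/
noncomputable def orb (T : Sylow 2 (Perm α)) (a : α) : Finset α := Finset.univ.filter (Rel T a)

theorem mem_orb {a b : α} : b ∈ orb T a ↔ Rel T a b := by simp [orb]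

theorem orb_eq {a b : α} (h : Rel T a b) : orb T b = orb T a := by
  ext y; rw [mem_orb, mem_orb]
  exact ⟨rel_trans h, rel_trans (rel_symm h)⟩

theorem card_orb (a : α) : ∃ j, (orb T a).card = 2 ^ j := by
  obtain ⟨j, hj⟩ := AltMax.orbit_card_pow T a
  refine ⟨j, ?_⟩
  rw [← hj, Nat.card_coe_set_eq, ← Set.ncard_coe_finset]
  congr 1
  ext y
  rw [Finset.mem_coe, mem_orb]
  exact ⟨fun ⟨g, hg, e⟩ => ⟨⟨g, hg⟩, e⟩, fun ⟨g, e⟩ => ⟨g.1, g.2, e⟩⟩

variable (hz : Pairing T z)
include hz

theorem four_dvd_orb {a : α} (ha : Big T z a) : 4 ∣ (orb T a).card := by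
  obtain ⟨j, hj⟩ := card_orb (T := T) a
  obtain ⟨hm, y, hy, hy1, hy2⟩ := ha
  have h3 : 3 ≤ (orb T a).card := by
    have hsub : ({a, z a, y} : Finset α) ⊆ orb T a := by
      intro u hu
      simp only [Finset.mem_insert, Finset.mem_singleton] at hu
      rcases hu with rfl | rfl | rfl
      · exact mem_orb.mpr (rel_refl _)
      · exact mem_orb.mpr (rel_z hz _)
      · exact mem_orb.mpr hy
    refine le_trans (le_of_eq ?_) (Finset.card_le_card hsub)
    rw [Finset.card_insert_of_notMem (by simp [Ne.symm hm, hy1.symm]),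
      Finset.card_insert_of_notMem (by simp [hy2.symm]), Finset.card_singleton]
  rw [hj] at h3 ⊢
  rcases j with _ | _ | j
  · simp at h3
  · simp at h3
  · exact ⟨2 ^ j, by ring⟩

open Classical in
theorem four_dvd_union (S : Finset α) (hbig : ∀ a ∈ S, Big T z a) (hclosed : ∀ a ∈ S, ∀ b, Rel T a b → b ∈ S) :
    4 ∣ S.card := by
  rw [Finset.card_eq_sum_card_image (orb T) S]
  refine Finset.dvd_sum fun O hO => ?_
  obtain ⟨a, ha, rfl⟩ := Finset.mem_image.mp hO
  have e : S.filter (fun b => orb T b = orb T a) = orb T a := by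
    ext b
    rw [Finset.mem_filter, mem_orb]
    exact ⟨fun h => mem_orb.mp (h.2 ▸ mem_orb.mpr (rel_refl b)), fun h => ⟨hclosed a ha b h, orb_eq h⟩⟩
  rw [e]
  exact four_dvd_orb hz (hbig a ha)

open Classical in
/-- the points in big orbits -/
noncomputable def bigs (T : Sylow 2 (Perm α)) (z : Perm α) : Finset α := Finset.univ.filter (Big T z)

omit hz in
theorem mem_bigs {a : α} : a ∈ bigs T z ↔ Big T z a := by simp [bigs]

open Classical in
theorem card_bigs : (bigs T z).card = 4 * (Fintype.card α / 4) ∧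
    ((∃ a, z a ≠ a ∧ ¬ Big T z a) ↔ 2 ≤ Fintype.card α % 4) := by
  have h4 : 4 ∣ (bigs T z).card := four_dvd_union hz _ (fun a ha => mem_bigs.mp ha)
    (fun a ha b h => mem_bigs.mpr (big_of_rel hz h (mem_bigs.mp ha)))
  have hsub : bigs T z ⊆ z.support := fun a ha => Perm.mem_support.mpr (mem_bigs.mp ha).1
  have hsd := Finset.card_sdiff_of_subset hsub
  have hle := Finset.card_le_card hsub
  rw [hz.supp] at hsd hle
  by_cases hs : ∃ a, z a ≠ a ∧ ¬ Big T z a
  · obtain ⟨a, ha, ha'⟩ := hs
    have e : z.support \ bigs T z = {a, z a} := by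
      ext b
      rw [Finset.mem_sdiff, Perm.mem_support, mem_bigs, Finset.mem_insert, Finset.mem_singleton]
      constructor
      · rintro ⟨h1, h2⟩; exact small_unique hz ha ha' h1 h2
      · rintro (rfl | rfl)
        · exact ⟨ha, ha'⟩
        · refine ⟨fun e => ha ?_, fun hb => ha' (big_of_rel hz (rel_symm (rel_z hz a)) hb)⟩
          exact (z.injective e)
    rw [e, Finset.card_insert_of_notMem (by simpa using Ne.symm ha), Finset.card_singleton] at hsd
    exact ⟨by omega, iff_of_true ⟨a, ha, ha'⟩ (by omega)⟩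
  · have e : z.support \ bigs T z = ∅ := by
      ext b
      simp only [Finset.mem_sdiff, Perm.mem_support, mem_bigs, Finset.notMem_empty, iff_false, not_and,
        not_not]
      intro hb
      by_contra hb'
      exact hs ⟨b, hb, hb'⟩
    rw [e, Finset.card_empty] at hsd
    exact ⟨by omega, iff_of_false hs (by omega)⟩

theorem exists_big (hn : 4 ≤ Fintype.card α) : ∃ a, Big T z a := by
  obtain ⟨a, ha⟩ := Finset.card_pos.mp (show 0 < (bigs T z).card by rw [(card_bigs hz).1]; omega)
  exact ⟨a, mem_bigs.mp ha⟩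

omit hz in
theorem choose_two_pow_mod (j : ℕ) : ∀ n : ℕ, n.choose (2 ^ j) % 2 = (n / 2 ^ j) % 2 := by
  haveI : Fact (Nat.Prime 2) := ⟨Nat.prime_two⟩
  induction j with
  | zero => intro n; simp
  | succ j ih =>
    intro n
    have h : n.choose (2 ^ (j + 1)) % 2 =
        ((n % 2).choose (2 ^ (j + 1) % 2) * (n / 2).choose (2 ^ (j + 1) / 2)) % 2 :=
      Choose.choose_modEq_choose_mod_mul_choose_div_nat (p := 2)
    rw [h, show 2 ^ (j + 1) % 2 = 0 by simp [pow_succ], Nat.choose_zero_right, one_mul,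
      show 2 ^ (j + 1) / 2 = 2 ^ j by simp [pow_succ], ih, Nat.div_div_eq_div_mul, ← pow_succ']

/-- when `4⌊n/4⌋` is a power of 2 there is only one big orbit -/
theorem big_transitive {r : ℕ} (hr : 4 * (Fintype.card α / 4) = 2 ^ r) {a b : α} (ha : Big T z a)
    (hb : Big T z b) : Rel T a b := by
  classical
  haveI : Fact (Nat.Prime 2) := ⟨Nat.prime_two⟩
  by_contra hab
  obtain ⟨j, hj⟩ := card_orb (T := T) a
  have hsub : orb T a ⊂ bigs T z := by
    refine Finset.ssubset_iff_subset_ne.mpr ⟨fun u hu => mem_bigs.mpr (big_of_rel hz (mem_orb.mp hu) ha), fun e => hab ?_⟩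
    exact mem_orb.mp (e ▸ mem_bigs.mpr hb)
  have h4 := four_dvd_orb hz ha
  have hlt := Finset.card_lt_card hsub
  rw [(card_bigs hz).1, hr, hj] at hlt
  rw [hj] at h4
  have hjr : j < r := (Nat.pow_lt_pow_iff_right (by norm_num)).mp hlt
  have hj2 : 2 ≤ j := (Nat.pow_dvd_pow_iff_le_right (x := 2) (by norm_num)).mp (by simpa using h4)
  set n := Fintype.card α
  have heven : n.choose (2 ^ j) % 2 = 0 := by
    rw [choose_two_pow_mod j]
    have hdecomp : n = n % 4 + 2 ^ j * 2 ^ (r - j) := by
      rw [← pow_add, Nat.add_sub_cancel' hjr.le, ← hr]; omega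
    have hlt4 : n % 4 < 2 ^ j := by
      have : 2 ^ 2 ≤ 2 ^ j := Nat.pow_le_pow_right (by norm_num) hj2
      omega
    rw [hdecomp, Nat.add_mul_div_left _ _ (by positivity), Nat.div_eq_of_lt hlt4, zero_add]
    exact Nat.mod_eq_zero_of_dvd (dvd_pow_self 2 (by omega)) |>.trans rfl
  -- the order of `T` divides `a! (n - a)!`
  let f : (T : Subgroup (Perm α)) →* Perm {x : α // x ∈ orb T a} × Perm {x : α // x ∉ orb T a} :=
    { toFun := fun g => (g.1.subtypePerm (fun x => by
          simp only [mem_orb]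
          exact ⟨fun h => rel_trans h (rel_symm (rel_apply g.2 x)), fun h => rel_trans h (rel_apply g.2 x)⟩),
        g.1.subtypePerm (fun x => by
          simp only [mem_orb]
          exact ⟨fun h h' => h (rel_trans h' (rel_apply g.2 x)),
            fun h h' => h (rel_trans h' (rel_symm (rel_apply g.2 x)))⟩))
      map_one' := by ext <;> rfl
      map_mul' := fun g k => by ext <;> rfl }
  have hinj : Function.Injective f := by
    intro g k h
    refine Subtype.ext (Perm.ext fun x => ?_)
    by_cases hx : x ∈ orb T a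
    · exact congrArg Subtype.val (Perm.congr_fun (congrArg Prod.fst h) ⟨x, hx⟩)
    · exact congrArg Subtype.val (Perm.congr_fun (congrArg Prod.snd h) ⟨x, hx⟩)
  have hdvd := Subgroup.card_dvd_of_injective f hinj
  have e1 : Nat.card {x : α // x ∈ orb T a} = 2 ^ j := by rw [Nat.card_eq_finsetCard, hj]
  have e2 : Nat.card {x : α // x ∉ orb T a} = n - 2 ^ j := by
    rw [Nat.card_eq_fintype_card, Fintype.card_subtype_compl, Fintype.card_coe, hj]
  rw [Nat.card_prod, Nat.card_perm, Nat.card_perm, e1, e2, T.card_eq_multiplicity, Nat.card_perm,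
    Nat.card_eq_fintype_card (α := α)] at hdvd
  have hle : 2 ^ j ≤ n := hj ▸ Finset.card_le_univ _
  have hmul := Nat.choose_mul_factorial_mul_factorial hle
  have h2 : 2 ^ (n.factorial.factorization 2 + 1) ∣ n.factorial := by
    rw [pow_succ, mul_comm]
    conv_rhs => rw [← hmul, mul_assoc]
    exact mul_dvd_mul (Nat.dvd_of_mod_eq_zero heven) hdvd
  rw [Nat.Prime.pow_dvd_iff_le_factorization Nat.prime_two n.factorial_ne_zero] at h2
  omega

end CfsgLib.AltSylowDecomp
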