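import Cfsg.Agent.Lib.AltSylowDecomp.Card

/-!
# The even part of a Sylow 2-subgroup and its central elements
-/

set_option autoImplicit false
set_option linter.unusedSectionVars false

namespace CfsgLib.AltSylowDecomp

open Equiv Equiv.Perm

variable {α : Type*} [Fintype α] [DecidableEq α] {T : Sylow 2 (Perm α)} {z : Perm α}

/-- the even elements of `T` -/
def evenPart (T : Sylow 2 (Perm α)) : Subgroup (Perm α) := (T : Subgroup (Perm α)) ⊓ alternatingGroup α

theorem mem_evenPart {g : Perm α} : g ∈ evenPart T ↔ g ∈ (T : Subgroup (Perm α)) ∧ sign g = 1 := by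
  rw [evenPart, Subgroup.mem_inf, Perm.mem_alternatingGroup]

/-- `c` is trivial on the orbit of `x` or agrees with `z` there -/
def CentralAt (T : Sylow 2 (Perm α)) (z c : Perm α) (x : α) : Prop :=
  (∀ y, Rel T x y → c y = y) ∨ ∀ y, Rel T x y → c y = z y

/-- the transpositions of the pairs of `a` and of `b` -/
def dswap (z : Perm α) (a b : α) : Perm α := swap a (z a) * swap b (z b)

theorem centralAt_rel {c : Perm α} {x y : α} (h : Rel T x y) (hc : CentralAt T z c x) : CentralAt T z c y :=
  hc.imp (fun hc u hu => hc u (rel_trans h hu)) fun hc u hu => hc u (rel_trans h hu)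

variable (hz : Pairing T z)
include hz

theorem ne_z {a u : α} (h : u ≠ z a) : a ≠ z u := fun e => h ((congrArg z e).trans (z_z hz u)).symm

theorem swap_pair_fix {a u : α} (h1 : u ≠ a) (h2 : u ≠ z a) : swap a (z a) u = u :=
  swap_apply_of_ne_of_ne h1 h2

theorem z_ne_z {a u : α} (h1 : u ≠ z a) : z u ≠ a := fun e => h1 (by rw [← e, z_z hz])

theorem dswap_mem {a b : α} (ha : z a ≠ a) (hb : z b ≠ b) : dswap z a b ∈ evenPart T := by
  refine mem_evenPart.mpr ⟨mul_mem (hz.swap_mem a) (hz.swap_mem b), ?_⟩
  rw [dswap, map_mul, sign_swap ha.symm, sign_swap hb.symm]; rfl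

/-- a pair away from at most two given pairs -/
theorem exists_spare (hn : 6 ≤ Fintype.card α) (x y : α) :
    ∃ w, z w ≠ w ∧ w ≠ x ∧ w ≠ z x ∧ w ≠ y ∧ w ≠ z y := by
  obtain ⟨w, hw, hw'⟩ := Finset.exists_mem_notMem_of_card_lt_card (s := {x, z x, y, z y}) (t := z.support)
    (lt_of_le_of_lt Finset.card_le_four (by rw [hz.supp]; omega))
  simp only [Finset.mem_insert, Finset.mem_singleton, not_or] at hw'
  exact ⟨w, Perm.mem_support.mp hw, hw'⟩

/-- the even part has the same orbits -/
theorem evenPart_orbit (hn : 4 ≤ Fintype.card α) {x y : α} (h : Rel T x y) :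
    ∃ p ∈ evenPart T, p x = y := by
  obtain ⟨g, hg, rfl⟩ := h
  rcases Int.units_eq_one_or (sign g) with hs | hs
  · exact ⟨g, mem_evenPart.mpr ⟨hg, hs⟩, rfl⟩
  obtain ⟨w, hw, hw'⟩ := Finset.exists_mem_notMem_of_card_lt_card (s := {x, z x}) (t := z.support)
    (lt_of_le_of_lt Finset.card_le_two (by rw [hz.supp]; omega))
  simp only [Finset.mem_insert, Finset.mem_singleton, not_or] at hw'
  rw [Perm.mem_support] at hw
  refine ⟨g * swap w (z w), mem_evenPart.mpr ⟨mul_mem hg (hz.swap_mem w), ?_⟩, ?_⟩
  · rw [map_mul, hs, sign_swap hw.symm]; rfl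
  · rw [Perm.mul_apply, swap_pair_fix hz (Ne.symm hw'.1) (ne_z hz hw'.2)]

/-- an element commuting with the even part is trivial or `z` on each big orbit -/
theorem centralAt_of_commute (hn : 6 ≤ Fintype.card α) {c : Perm α} (hc : c ∈ (T : Subgroup (Perm α)))
    (hcomm : ∀ p ∈ evenPart T, ∀ u, c (p u) = p (c u)) {x : α} (hx : Big T z x) : CentralAt T z c x := by
  have key : c x = x ∨ c x = z x := by
    by_contra h
    push Not at h
    have hy : z (c x) ≠ c x := fun e => hx.1 ((z_move_iff hz (rel_apply hc x)).mp e)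
    obtain ⟨w, hw, hwx, hwzx, hwy, hwzy⟩ := exists_spare hz hn x (c x)
    have hD := hcomm _ (dswap_mem hz hy hw) x
    rw [dswap, Perm.mul_apply, Perm.mul_apply, swap_pair_fix hz hwx.symm (ne_z hz hwzx),
      swap_pair_fix hz (fun e => h.1 e.symm) (ne_z hz h.2),
      swap_pair_fix hz hwy.symm (ne_z hz hwzy), swap_apply_left] at hD
    exact hy hD.symm
  rcases key with h | h
  · refine Or.inl fun y hy => ?_
    obtain ⟨p, hp, rfl⟩ := evenPart_orbit hz (by omega) hy
    rw [hcomm p hp, h]
  · refine Or.inr fun y hy => ?_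
    obtain ⟨p, hp, rfl⟩ := evenPart_orbit hz (by omega) hy
    rw [hcomm p hp, h, z_comm hz (mem_evenPart.mp hp).1]

/-- the fixed point of `z` is fixed by `T` -/
theorem apply_fixed {c : Perm α} (hc : c ∈ (T : Subgroup (Perm α))) {a : α} (ha : z a = a) : c a = a :=
  fixed_unique hz (by rw [← z_comm hz hc, ha]) ha

/-- the sign of an element that is trivial or `z` on each orbit, moving only big orbits -/
theorem sign_central {c : Perm α} (hc : ∀ y, c y = y ∨ c y = z y)
    (hmove : ∀ y, c y ≠ y → Big T z y ∧ ∀ u, Rel T y u → c u ≠ u) : sign c = 1 := by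
  classical
  haveI : Fact (Nat.Prime 2) := ⟨Nat.prime_two⟩
  have hcc : ∀ y, c (c y) = y := by
    intro y
    rcases hc y with h | h
    · rw [h, h]
    · rcases hc (c y) with h' | h'
      · have := c.injective h'
        rw [h', this]
      · rw [h', h, z_z hz]
  have hord : orderOf c ∣ 2 := orderOf_dvd_of_pow_eq_one (Perm.ext fun y => by simpa [pow_two] using hcc y)
  have htype : ∀ k ∈ c.cycleType, k = 2 := fun k hk => by
    rcases (Nat.dvd_prime Nat.prime_two).mp ((dvd_of_mem_cycleType hk).trans hord) with h | h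
    · exact absurd h (by have := two_le_of_mem_cycleType hk; omega)
    · exact h
  have hsum : c.support.card = 2 * Multiset.card c.cycleType := by
    rw [← sum_cycleType, Multiset.eq_replicate_card.mpr htype, Multiset.sum_replicate, Multiset.card_replicate,
      smul_eq_mul, mul_comm]
  have h4 : 4 ∣ c.support.card := four_dvd_union hz _ (fun a ha => (hmove a (Perm.mem_support.mp ha)).1)
    (fun a ha b h => Perm.mem_support.mpr ((hmove a (Perm.mem_support.mp ha)).2 b h))
  obtain ⟨m, hm⟩ := h4
  rw [sign_of_cycleType, show c.cycleType.sum + Multiset.card c.cycleType = 2 * (3 * m) by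
    rw [sum_cycleType]; omega]
  rw [pow_mul]; simp

/-- the commutator of `g` with the transpositions of two pairs -/
theorem conj_dswap {g : Perm α} (hg : g ∈ (T : Subgroup (Perm α))) (a b : α) :
    g * dswap z a b * g⁻¹ = dswap z (g a) (g b) := by
  rw [dswap, dswap, ← z_comm hz hg, ← z_comm hz hg, swap_apply_apply, swap_apply_apply]
  group

theorem dswap_inv (a b : α) (hb : z b ≠ b) (h1 : b ≠ a) (h2 : b ≠ z a) (ha : z a ≠ a) :
    (dswap z a b)⁻¹ = dswap z a b := by
  have hd : Commute (swap a (z a)) (swap b (z b)) := by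
    apply Disjoint.commute
    intro u
    by_cases hu : u = b ∨ u = z b
    · left
      rcases hu with rfl | rfl
      · exact swap_pair_fix hz h1 h2
      · exact swap_pair_fix hz (z_ne_z hz h2) (fun e => h1 (z.injective e))
    · push Not at hu
      exact Or.inr (swap_pair_fix hz hu.1 hu.2)
  rw [dswap, mul_inv_rev, swap_inv, swap_inv, hd.eq]

end CfsgLib.AltSylowDecomp
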