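import Cfsg.Agent.Lib.AltSylowDecomp.Central
import Cfsg.Prelude.Def_TwoFusion

/-!
# Indecomposability of the even part
-/

set_option autoImplicit false
set_option linter.unusedSectionVars false

namespace CfsgLib.AltSylowDecomp

open Equiv Equiv.Perm

variable {α : Type*} [Fintype α] [DecidableEq α]

/-- commuting subgroups generating the even part -/
structure Split (T : Sylow 2 (Perm α)) (A B : Subgroup (Perm α)) : Prop where
  left : A ≤ evenPart T
  right : B ≤ evenPart T
  comm : ∀ a ∈ A, ∀ b ∈ B, a * b = b * a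
  inf : A ⊓ B = ⊥
  gen : ∀ p ∈ evenPart T, ∃ a ∈ A, ∃ b ∈ B, a * b = p

variable {T : Sylow 2 (Perm α)} {z : Perm α} {A B : Subgroup (Perm α)}

theorem split_symm (h : Split T A B) : Split T B A :=
  ⟨h.right, h.left, fun a ha b hb => (h.comm b hb a ha).symm, inf_comm A B ▸ h.inf,
    fun p hp => by obtain ⟨a, ha, b, hb, e⟩ := h.gen p hp; exact ⟨b, hb, a, ha, by rw [← h.comm a ha b hb, e]⟩⟩

theorem split_of_product (h : Cfsg.IsInternalDirectProduct A B (evenPart T)) : Split T A B := by
  obtain ⟨hA, hB, hc, hi, hs⟩ := h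
  refine ⟨hA, hB, hc, hi, fun p hp => ?_⟩
  have hn : B ≤ Subgroup.normalizer (A : Set (Perm α)) := fun b hb => Subgroup.mem_normalizer_iff.mpr fun x => by
    refine ⟨fun hx => by rw [← hc x hx b hb, mul_inv_cancel_right]; exact hx, fun hx => ?_⟩
    have := hc _ hx b hb
    have e : x = b * x * b⁻¹ := by
      rw [inv_mul_cancel_right] at this
      exact mul_left_cancel this
    rw [e]; exact hx
  rw [← hs, ← SetLike.mem_coe, Subgroup.coe_mul_of_right_le_normalizer_left A B hn] at hp
  obtain ⟨a, ha, b, hb, e⟩ := hp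
  exact ⟨a, ha, b, hb, e⟩

variable (hz : Pairing T z) (hAB : Split T A B)
include hz hAB

theorem apply_comm {a b : Perm α} (ha : a ∈ A) (hb : b ∈ B) (u : α) : a (b u) = b (a u) :=
  Perm.congr_fun (hAB.comm a ha b hb) u

theorem mem_T_left {a : Perm α} (ha : a ∈ A) : a ∈ (T : Subgroup (Perm α)) := (hAB.left ha).1

theorem mem_T_right {b : Perm α} (hb : b ∈ B) : b ∈ (T : Subgroup (Perm α)) := (hAB.right hb).1

/-- if `B` moves the pair of `x` wherever `A` does, one of them moves no pair of `x` -/
theorem centralAt_of_fix (hn : 4 ≤ Fintype.card α) {x : α} (h : ∀ a ∈ A, a x = x ∨ a x = z x) :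
    ∀ a ∈ A, CentralAt T z a x := by
  intro a ha
  have hpair : ∀ y, Rel T x y → ∃ b ∈ B, y = b x ∨ y = z (b x) := by
    intro y hy
    obtain ⟨p, hp, rfl⟩ := evenPart_orbit hz hn hy
    obtain ⟨a', ha', b', hb', rfl⟩ := hAB.gen p hp
    refine ⟨b', hb', ?_⟩
    rw [Perm.mul_apply, apply_comm hz hAB ha' hb']
    exact (h a' ha').imp (fun e => by rw [e]) fun e => by rw [e, z_comm hz (mem_T_right hz hAB hb')]
  rcases h a ha with e | e
  · refine Or.inl fun y hy => ?_
    obtain ⟨b, hb, rfl | rfl⟩ := hpair y hy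
    · rw [apply_comm hz hAB ha hb, e]
    · rw [z_comm hz (mem_T_left hz hAB ha), apply_comm hz hAB ha hb, e]
  · refine Or.inr fun y hy => ?_
    obtain ⟨b, hb, rfl | rfl⟩ := hpair y hy
    · rw [apply_comm hz hAB ha hb, e, z_comm hz (mem_T_right hz hAB hb)]
    · rw [z_comm hz (mem_T_left hz hAB ha), apply_comm hz hAB ha hb, e, z_comm hz (mem_T_right hz hAB hb)]

/-- an element of `B` keeps the pair of `x` in its pair or that of its image under an element of `A` -/
theorem moved_together {x w : α} (hx : z x ≠ x) (hw : z w ≠ w) (hxw : ¬ Rel T x w) {a b : Perm α}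
    (ha : a ∈ A) (hb : b ∈ B) (h1 : a x ≠ x) (h2 : a x ≠ z x) (h3 : b x ≠ x) (h4 : b x ≠ z x) :
    b x = a x ∨ b x = z (a x) := by
  have haT := mem_T_left hz hAB ha
  have hoff : ∀ u v, Rel T x u → Rel T w v → u ≠ v := fun u v hu hv e => hxw (rel_trans hu (rel_symm (e ▸ hv)))
  set D := dswap z x w with hD
  have hDE : D ∈ evenPart T := dswap_mem hz hx hw
  have hwx : w ≠ x := fun e => hxw (e ▸ rel_refl w)
  have hwzx : w ≠ z x := fun e => hxw (e ▸ rel_z hz x)
  have hDa : D * a⁻¹ * D⁻¹ ∈ A := by
    obtain ⟨a', ha', b', hb', e⟩ := hAB.gen D hDE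
    rw [← e]
    have hcb := hAB.comm a⁻¹ (inv_mem ha) b' hb'
    have : a' * b' * a⁻¹ * (a' * b')⁻¹ = a' * a⁻¹ * a'⁻¹ := by
      calc a' * b' * a⁻¹ * (a' * b')⁻¹ = a' * (b' * a⁻¹) * b'⁻¹ * a'⁻¹ := by group
        _ = a' * (a⁻¹ * b') * b'⁻¹ * a'⁻¹ := by rw [hcb]
        _ = _ := by group
    rw [this]
    exact mul_mem (mul_mem ha' (inv_mem ha)) (inv_mem ha')
  set c := dswap z (a x) (a w) * D with hc
  have hcA : c ∈ A := by
    have e : c = a * (D * a⁻¹ * D⁻¹) := by
      rw [hc, ← conj_dswap hz haT, hD, dswap_inv hz x w hw hwx hwzx hx]; group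
    rw [e]
    exact mul_mem ha hDa
  have hcx : c x = z x := by
    rw [hc, hD, dswap, dswap, Perm.mul_apply, Perm.mul_apply, Perm.mul_apply,
      swap_pair_fix hz hwx.symm (ne_z hz hwzx), swap_apply_left,
      swap_pair_fix hz (hoff _ _ (rel_z hz x) (rel_apply haT w))
        (hoff _ _ (rel_z hz x) (rel_trans (rel_apply haT w) (rel_z hz _))),
      swap_pair_fix hz h2.symm (fun e => h1 (z.injective e).symm)]
  have hne : c (b x) ≠ b x := by
    rw [apply_comm hz hAB hcA hb, hcx]
    exact fun e => hx (b.injective e)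
  have hxb : Rel T x (b x) := rel_apply (mem_T_right hz hAB hb) x
  by_contra hcon
  push Not at hcon
  apply hne
  rw [hc, hD, dswap, dswap, Perm.mul_apply, Perm.mul_apply, Perm.mul_apply,
    swap_pair_fix hz (hoff _ _ hxb (rel_refl w)) (hoff _ _ hxb (rel_z hz w)),
    swap_pair_fix hz h3 h4,
    swap_pair_fix hz (hoff _ _ hxb (rel_apply haT w))
      (hoff _ _ hxb (rel_trans (rel_apply haT w) (rel_z hz _))),
    swap_pair_fix hz hcon.1 hcon.2]

/-- on a big orbit one of the two factors is central -/
theorem dichotomy (hn : 4 ≤ Fintype.card α) {x w : α} (hx : Big T z x) (hw : z w ≠ w) (hxw : ¬ Rel T x w) :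
    (∀ a ∈ A, CentralAt T z a x) ∨ ∀ b ∈ B, CentralAt T z b x := by
  by_cases hA : ∀ a ∈ A, a x = x ∨ a x = z x
  · exact Or.inl (centralAt_of_fix hz hAB hn hA)
  by_cases hB : ∀ b ∈ B, b x = x ∨ b x = z x
  · exact Or.inr (centralAt_of_fix hz (split_symm hAB) hn hB)
  exfalso
  push Not at hA hB
  obtain ⟨a₀, ha₀, ha1, ha2⟩ := hA
  obtain ⟨b₀, hb₀, hb1, hb2⟩ := hB
  set u := b₀ x with hu
  have hua : u = a₀ x ∨ u = z (a₀ x) := moved_together hz hAB hx.1 hw hxw ha₀ hb₀ ha1 ha2 hb1 hb2
  have hmu : z u ≠ u := fun e => hx.1 ((z_move_iff hz (rel_apply (mem_T_right hz hAB hb₀) x)).mp e)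
  have hwx : w ≠ x := fun e => hxw (e ▸ rel_refl w)
  have hwzx : w ≠ z x := fun e => hxw (e ▸ rel_z hz x)
  have hxu : Rel T x u := rel_apply (mem_T_right hz hAB hb₀) x
  have hwu : w ≠ u := fun e => hxw (e ▸ hxu)
  have hwzu : w ≠ z u := fun e => hxw (e ▸ rel_trans hxu (rel_z hz u))
  obtain ⟨a, ha, b, hb, hp⟩ := hAB.gen _ (dswap_mem hz hx.1 hw)
  have hpx : a (b x) = z x := by
    rw [← Perm.mul_apply, hp, dswap, Perm.mul_apply, swap_pair_fix hz hwx.symm (ne_z hz hwzx),
      swap_apply_left]
  have hpu : a (b u) = u := by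
    rw [← Perm.mul_apply, hp, dswap, Perm.mul_apply, swap_pair_fix hz hwu.symm (ne_z hz hwzu),
      swap_pair_fix hz hb1 hb2]
  have za := z_comm hz (mem_T_left hz hAB ha)
  have zb := z_comm hz (mem_T_right hz hAB hb)
  have za₀ := z_comm hz (mem_T_left hz hAB ha₀)
  have zz := z_z hz
  by_cases hax : a x = x ∨ a x = z x
  · -- then `b x` is in the pair of `x`
    have hbx : (a x = x ∧ b x = z x) ∨ (a x = z x ∧ b x = x) := by
      rcases hax with e | e
      · exact Or.inl ⟨e, a.injective (by rw [hpx, za, e])⟩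
      · exact Or.inr ⟨e, a.injective (by rw [hpx, e])⟩
    have hab : ∀ v, a (b (a₀ v)) = a (a₀ (b v)) := fun v => by rw [apply_comm hz hAB ha₀ hb]
    apply hmu
    rcases hbx with ⟨e1, e2⟩ | ⟨e1, e2⟩
    · have au : a u = u := by rw [hu, apply_comm hz hAB ha hb₀, e1]
      have bu : b u = z u := by
        rcases hua with h | h <;> rw [h]
        · rw [← apply_comm hz hAB ha₀ hb, e2, za₀]
        · rw [zb, ← apply_comm hz hAB ha₀ hb, e2, za₀]
      rw [bu, za, au] at hpu
      exact hpu
    · have au : a u = z u := by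
        rw [hu, apply_comm hz hAB ha hb₀, e1, z_comm hz (mem_T_right hz hAB hb₀)]
      have bu : b u = u := by
        rcases hua with h | h <;> rw [h]
        · rw [← apply_comm hz hAB ha₀ hb, e2]
        · rw [zb, ← apply_comm hz hAB ha₀ hb, e2]
      rw [bu, au] at hpu
      exact hpu
  · push Not at hax
    have h := moved_together hz hAB hx.1 hw hxw ha hb₀ hax.1 hax.2 hb1 hb2
    apply hmu
    have key : ∀ v, a (b (a v)) = a (a (b v)) := fun v => congrArg a (apply_comm hz hAB ha hb v).symm
    rcases h with h | h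
    · -- `u = a x`
      have : a (b u) = z u := by rw [hu, h, key, hpx, za]
      exact this.symm.trans hpu
    · have : a (b u) = z u := by rw [hu, h, zb, za, key, hpx, za, zz]
      exact this.symm.trans hpu

/-- a factor that is central on every orbit is trivial -/
theorem eq_bot_of_central (hn : 4 ≤ Fintype.card α) (hsmall : ∀ x, z x ≠ x → Big T z x)
    (htwo : ∀ x, Big T z x → ∃ w, z w ≠ w ∧ ¬ Rel T x w) (hA : ∀ a ∈ A, ∀ x, Big T z x → CentralAt T z a x) :
    A = ⊥ := by
  classical
  have hcen : ∀ a ∈ A, ∀ g ∈ (T : Subgroup (Perm α)), ∀ v, a (g v) = g (a v) := by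
    intro a ha g hg v
    by_cases hv : z v = v
    · rw [apply_fixed hz hg hv, apply_fixed hz (mem_T_left hz hAB ha) hv, apply_fixed hz hg hv]
    rcases hA a ha v (hsmall v hv) with h | h
    · rw [h _ (rel_apply hg v), h v (rel_refl v)]
    · rw [h _ (rel_apply hg v), h v (rel_refl v), z_comm hz hg]
  have hcommu : ∀ p ∈ evenPart T, ∀ q ∈ evenPart T, p * q * p⁻¹ * q⁻¹ ∈ B := by
    intro p hp q hq
    obtain ⟨a, ha, b, hb, rfl⟩ := hAB.gen p hp
    obtain ⟨a', ha', b', hb', rfl⟩ := hAB.gen q hq
    have c1 : ∀ a ∈ A, ∀ g ∈ (T : Subgroup (Perm α)), Commute a g := fun a ha g hg =>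
      Perm.ext fun v => hcen a ha g hg v
    have ca : Commute a (a' * b') := c1 a ha _ hq.1
    have cb : Commute a' b := c1 a' ha' _ (mem_T_right hz hAB hb)
    have e : a * b * (a' * b') * (a * b)⁻¹ * (a' * b')⁻¹ = b * b' * b⁻¹ * b'⁻¹ := by
      calc a * b * (a' * b') * (a * b)⁻¹ * (a' * b')⁻¹
          = a * (b * (a' * b') * b⁻¹) * a⁻¹ * (a' * b')⁻¹ := by group
        _ = b * (a' * b') * b⁻¹ * (a' * b')⁻¹ := by
          have : Commute a (b * (a' * b') * b⁻¹) :=
            c1 a ha _ (mul_mem (mul_mem (mem_T_right hz hAB hb) hq.1) (inv_mem (mem_T_right hz hAB hb)))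
          rw [this.eq]; group
        _ = a' * (b * b' * b⁻¹) * (a' * b')⁻¹ := by
          rw [← mul_assoc b a' b', ← cb.eq]; group
        _ = b * b' * b⁻¹ * b'⁻¹ := by
          have : Commute a' (b * b' * b⁻¹ * b'⁻¹) :=
            c1 a' ha' _ (mul_mem (mul_mem (mul_mem (mem_T_right hz hAB hb) (mem_T_right hz hAB hb'))
              (inv_mem (mem_T_right hz hAB hb))) (inv_mem (mem_T_right hz hAB hb')))
          calc a' * (b * b' * b⁻¹) * (a' * b')⁻¹ = a' * (b * b' * b⁻¹ * b'⁻¹) * a'⁻¹ := by group
            _ = _ := by rw [this.eq]; group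
    rw [e]
    exact mul_mem (mul_mem (mul_mem hb hb') (inv_mem hb)) (inv_mem hb')
  -- the transpositions of two pairs in one orbit
  have hsame : ∀ i j, Big T z i → Rel T i j → dswap z j i ∈ B := by
    intro i j hi hij
    obtain ⟨w, hw, hiw⟩ := htwo i hi
    obtain ⟨g, hg, hgi⟩ := hij
    obtain ⟨k, hk, hk1, hk2⟩ := exists_restrict hg (Rel T i) (fun a b h h' => rel_trans h' h)
    have hw1 : w ≠ i := fun e => hiw (e ▸ rel_refl w)
    have hw2 : w ≠ z i := fun e => hiw (e ▸ rel_z hz i)
    have hki : k i = j := by rw [hk1 i (rel_refl i), hgi]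
    obtain ⟨p, hp, hpi, hpw⟩ : ∃ p ∈ evenPart T, p i = j ∧ (p w = w ∨ p w = z w) := by
      rcases Int.units_eq_one_or (sign k) with hs | hs
      · exact ⟨k, mem_evenPart.mpr ⟨hk, hs⟩, hki, Or.inl (hk2 w hiw)⟩
      · refine ⟨k * swap w (z w), mem_evenPart.mpr ⟨mul_mem hk (hz.swap_mem w), ?_⟩, ?_, ?_⟩
        · rw [map_mul, hs, sign_swap hw.symm]; rfl
        · rw [Perm.mul_apply, swap_pair_fix hz hw1.symm (ne_z hz hw2), hki]
        · rw [Perm.mul_apply, swap_apply_left, z_comm hz hk, hk2 w hiw]
          exact Or.inr rfl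
    have hdw : dswap z j (p w) = dswap z j w := by
      rcases hpw with e | e <;> rw [e]
      rw [dswap, dswap, z_z hz, swap_comm (z w) w]
    have h := hcommu p hp _ (dswap_mem hz hi.1 hw)
    rw [conj_dswap hz hp.1, hpi, hdw, dswap_inv hz i w hw hw1 hw2 hi.1] at h
    have hd : Commute (swap i (z i)) (swap w (z w)) := by
      have := dswap_inv hz i w hw hw1 hw2 hi.1
      rw [dswap, mul_inv_rev, swap_inv, swap_inv] at this
      exact this.symm
    have e : dswap z j w * dswap z i w = dswap z j i := by
      simp only [dswap]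
      calc swap j (z j) * swap w (z w) * (swap i (z i) * swap w (z w))
          = swap j (z j) * (swap w (z w) * (swap i (z i) * swap w (z w))) := by group
        _ = swap j (z j) * (swap w (z w) * (swap w (z w) * swap i (z i))) := by rw [hd.eq]
        _ = swap j (z j) * swap i (z i) := by rw [← mul_assoc (swap w (z w)), swap_mul_self, one_mul]
    rwa [e] at h
  have hall : ∀ N (c : Perm α), c.support.card = N → (∀ y, c y = y ∨ c y = z y) →
      (∀ x, 4 ∣ (c.support.filter fun y => Rel T x y).card) → c ∈ B := by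
    intro N
    induction N using Nat.strong_induction_on with
    | _ N ih =>
      intro c hN hc hdiv
      by_cases hc1 : c = 1
      · rw [hc1]; exact one_mem _
      obtain ⟨x, hx⟩ : ∃ x, c x ≠ x := by
        by_contra h; push Not at h; exact hc1 (Perm.ext h)
      set F := c.support.filter fun y => Rel T x y with hF
      have hxF : x ∈ F := Finset.mem_filter.mpr ⟨Perm.mem_support.mpr hx, rel_refl x⟩
      have h4 : 4 ≤ F.card := Nat.le_of_dvd (Finset.card_pos.mpr ⟨x, hxF⟩) (hdiv x)
      obtain ⟨y, hyF, hy⟩ := Finset.exists_mem_notMem_of_card_lt_card (s := {x, z x}) (t := F)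
        (lt_of_le_of_lt Finset.card_le_two (by omega))
      simp only [Finset.mem_insert, Finset.mem_singleton, not_or] at hy
      obtain ⟨hymove, hxy⟩ := Finset.mem_filter.mp hyF
      rw [Perm.mem_support] at hymove
      have hcx : c x = z x := (hc x).resolve_left hx
      have hcy : c y = z y := (hc y).resolve_left hymove
      have hzx : z x ≠ x := fun e => hx (hcx.trans e)
      have hzy : z y ≠ y := fun e => hymove (hcy.trans e)
      have hczx : c (z x) = x := by
        rcases hc (z x) with e | e
        · exact absurd (c.injective (e.trans hcx.symm)) hzx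
        · rw [e, z_z hz]
      have hczy : c (z y) = y := by
        rcases hc (z y) with e | e
        · exact absurd (c.injective (e.trans hcy.symm)) hzy
        · rw [e, z_z hz]
      have hD : dswap z x y ∈ B := by
        have hyx : Rel T y x := rel_symm hxy
        exact hsame y x (hsmall y hzy) hyx
      have four : ∀ v, (v = x ∨ v = z x ∨ v = y ∨ v = z y) → (c * dswap z x y) v = v := by
        intro v hv
        rw [Perm.mul_apply, dswap, Perm.mul_apply]
        rcases hv with rfl | rfl | rfl | rfl
        · rw [swap_pair_fix hz (Ne.symm hy.1) (ne_z hz hy.2), swap_apply_left, hczx]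
        · rw [swap_pair_fix hz (Ne.symm hy.2) (fun e => hy.1 (z.injective e).symm), swap_apply_right, hcx]
        · rw [swap_apply_left, swap_pair_fix hz (z_ne_z hz hy.2) (fun e => hy.1 (z.injective e)), hczy]
        · rw [swap_apply_right, swap_pair_fix hz hy.1 hy.2, hcy]
      have other : ∀ v, ¬ (v = x ∨ v = z x ∨ v = y ∨ v = z y) → (c * dswap z x y) v = c v := by
        intro v hv
        push Not at hv
        rw [Perm.mul_apply, dswap, Perm.mul_apply, swap_pair_fix hz hv.2.2.1 hv.2.2.2,
          swap_pair_fix hz hv.1 hv.2.1]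
      set S4 : Finset α := {x, z x, y, z y} with hS4
      have hmem4 : ∀ v, v ∈ S4 ↔ (v = x ∨ v = z x ∨ v = y ∨ v = z y) := fun v => by simp [hS4]
      have hS4sub : S4 ⊆ c.support := by
        intro v hv
        rw [Perm.mem_support]
        rcases (hmem4 v).mp hv with rfl | rfl | rfl | rfl
        · exact hx
        · rw [hczx]; exact hzx.symm
        · exact hymove
        · rw [hczy]; exact hzy.symm
      have hsupp : (c * dswap z x y).support = c.support \ S4 := by
        ext v
        rw [Finset.mem_sdiff, Perm.mem_support, Perm.mem_support, hmem4]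
        by_cases hv : v = x ∨ v = z x ∨ v = y ∨ v = z y
        · simp [four v hv, hv]
        · simp [other v hv, hv]
      have hlt : (c * dswap z x y).support.card < N := by
        rw [hsupp, Finset.card_sdiff_of_subset hS4sub, ← hN]
        have : 0 < S4.card := Finset.card_pos.mpr ⟨x, by simp [hS4]⟩
        have := Finset.card_le_card hS4sub
        omega
      have hmem := ih _ hlt (c * dswap z x y) rfl (fun v => by
        by_cases hv : v = x ∨ v = z x ∨ v = y ∨ v = z y
        · exact Or.inl (four v hv)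
        · rw [other v hv]; exact hc v) (fun v => by
        rw [hsupp]
        by_cases hvx : Rel T v x
        · have e : (c.support \ S4).filter (fun u => Rel T v u) = c.support.filter (fun u => Rel T v u) \ S4 := by
            ext u; simp [and_right_comm]
          have hsub : S4 ⊆ c.support.filter (fun u => Rel T v u) := fun u hu => by
            refine Finset.mem_filter.mpr ⟨hS4sub hu, rel_trans hvx ?_⟩
            rcases (hmem4 u).mp hu with rfl | rfl | rfl | rfl
            · exact rel_refl _
            · exact rel_z hz _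
            · exact hxy
            · exact rel_trans hxy (rel_z hz _)
          have hcard : S4.card = 4 := by
            rw [hS4, Finset.card_insert_of_notMem, Finset.card_insert_of_notMem, Finset.card_insert_of_notMem,
              Finset.card_singleton]
            · simpa using hzy.symm
            · simp only [Finset.mem_insert, Finset.mem_singleton, not_or]
              exact ⟨Ne.symm hy.2, fun e => hy.1 (z.injective e).symm⟩
            · simp only [Finset.mem_insert, Finset.mem_singleton, not_or]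
              exact ⟨hzx.symm, Ne.symm hy.1, fun e => hy.2 (by rw [e, z_z hz])⟩
          rw [e, Finset.card_sdiff_of_subset hsub, hcard]
          exact Nat.dvd_sub (hdiv v) (dvd_refl 4)
        · have e : (c.support \ S4).filter (fun u => Rel T v u) = c.support.filter (fun u => Rel T v u) := by
            ext u
            simp only [Finset.mem_filter, Finset.mem_sdiff, hmem4]
            refine ⟨fun h => ⟨h.1.1, h.2⟩, fun h => ⟨⟨h.1, fun hu => hvx (rel_trans h.2 (rel_symm ?_))⟩, h.2⟩⟩
            rcases hu with rfl | rfl | rfl | rfl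
            · exact rel_refl _
            · exact rel_z hz _
            · exact hxy
            · exact rel_trans hxy (rel_z hz _)
          rw [e]
          exact hdiv v)
      have : c = c * dswap z x y * (dswap z x y)⁻¹ := by group
      rw [this]
      exact mul_mem hmem (inv_mem hD)
  refine (Subgroup.eq_bot_iff_forall _).mpr fun a ha => ?_
  have haB : a ∈ B := by
    refine hall _ a rfl (fun y => ?_) (fun x => ?_)
    · by_cases hy : z y = y
      · exact Or.inl (apply_fixed hz (mem_T_left hz hAB ha) hy)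
      rcases hA a ha y (hsmall y hy) with h | h
      · exact Or.inl (h y (rel_refl y))
      · exact Or.inr (h y (rel_refl y))
    · refine four_dvd_union hz _ (fun u hu => ?_) (fun u hu v huv => ?_)
      · have hu' := Perm.mem_support.mp (Finset.mem_filter.mp hu).1
        exact hsmall u fun e => hu' (apply_fixed hz (mem_T_left hz hAB ha) e)
      · obtain ⟨hu1, hu2⟩ := Finset.mem_filter.mp hu
        rw [Perm.mem_support] at hu1
        refine Finset.mem_filter.mpr ⟨Perm.mem_support.mpr ?_, rel_trans hu2 huv⟩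
        obtain ⟨g, hg, rfl⟩ := huv
        rw [hcen a ha g hg]
        exact fun e => hu1 (g.injective e)
  exact (Subgroup.eq_bot_iff_forall _).mp hAB.inf a ⟨ha, haB⟩

end CfsgLib.AltSylowDecomp
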