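import Cfsg.Agent.Lib.AltSylowDecomp.Indec

/-!
# When the even part of a Sylow 2-subgroup is a direct product
-/

set_option autoImplicit false
set_option linter.unusedSectionVars false

namespace CfsgLib.AltSylowDecomp

open Equiv Equiv.Perm

variable {α : Type*} [Fintype α] [DecidableEq α] {T : Sylow 2 (Perm α)} {z : Perm α}
variable (hz : Pairing T z)
include hz

theorem eq_one_of_fix_bigs {p : Perm α} (hp : p ∈ evenPart T) (h : ∀ v, Big T z v → p v = v) : p = 1 := by
  obtain ⟨hpT, hs⟩ := mem_evenPart.mp hp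
  by_contra hne
  obtain ⟨v, hv⟩ : ∃ v, p v ≠ v := by by_contra h'; push Not at h'; exact hne (Perm.ext h')
  have hzv : z v ≠ v := fun e => hv (apply_fixed hz hpT e)
  have hvb : ¬ Big T z v := fun hb => hv (h v hb)
  have hpv : p v = z v := by
    by_contra h'
    exact hvb ⟨hzv, p v, rel_apply hpT v, hv, h'⟩
  have e : p = swap v (z v) := by
    refine Perm.ext fun u => ?_
    by_cases h1 : u = v
    · rw [h1, swap_apply_left, hpv]
    by_cases h2 : u = z v
    · rw [h2, swap_apply_right, z_comm hz hpT, hpv, z_z hz]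
    rw [swap_pair_fix hz h1 h2]
    by_cases hzu : z u = u
    · exact apply_fixed hz hpT hzu
    by_cases hub : Big T z u
    · exact h u hub
    rcases small_unique hz hzv hvb hzu hub with h3 | h3
    · exact absurd h3 h1
    · exact absurd h3 h2
  rw [e, sign_swap hzv.symm] at hs
  exact absurd hs (by decide)

theorem exists_central {A B : Subgroup (Perm α)} (hAB : Split T A B) (hA : A ≠ ⊥) :
    ∃ a ∈ A, a ≠ 1 ∧ ∀ p ∈ evenPart T, ∀ u, a (p u) = p (a u) := by
  haveI : Fact (Nat.Prime 2) := ⟨Nat.prime_two⟩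
  haveI : Nontrivial A := (Subgroup.nontrivial_iff_ne_bot A).mpr hA
  have hp : IsPGroup 2 A := T.isPGroup'.to_le (hAB.left.trans inf_le_left)
  haveI := hp.center_nontrivial
  obtain ⟨⟨a, hac⟩, hne⟩ := exists_ne (1 : Subgroup.center A)
  refine ⟨a.1, a.2, fun e => hne (Subtype.ext (Subtype.ext e)), fun p hp u => ?_⟩
  obtain ⟨a', ha', b', hb', rfl⟩ := hAB.gen p hp
  have h1 : a' * a.1 = a.1 * a' := congrArg Subtype.val (Subgroup.mem_center_iff.mp hac ⟨a', ha'⟩)
  rw [Perm.mul_apply, Perm.mul_apply, ← Perm.mul_apply a.1 a', ← h1, Perm.mul_apply,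
    apply_comm hz hAB a.2 hb']

theorem no_split_one (hn : 6 ≤ Fintype.card α) (h1 : ∀ x y, Big T z x → Big T z y → Rel T x y)
    {A B : Subgroup (Perm α)} (hAB : Split T A B) (hA : A ≠ ⊥) (hB : B ≠ ⊥) : False := by
  obtain ⟨x, hx⟩ := exists_big hz (by omega)
  have fix : ∀ c ∈ evenPart T, (∀ p ∈ evenPart T, ∀ u, c (p u) = p (c u)) → c x = x → c = 1 := by
    intro c hc hcomm hcx
    refine eq_one_of_fix_bigs hz hc fun v hv => ?_
    rcases centralAt_of_commute hz hn hc.1 hcomm hx with h | h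
    · exact h v (h1 x v hx hv)
    · exact absurd ((h x (rel_refl x)).symm.trans hcx) hx.1
  have mv : ∀ c ∈ evenPart T, (∀ p ∈ evenPart T, ∀ u, c (p u) = p (c u)) → c ≠ 1 → c x = z x := by
    intro c hc hcomm hne
    rcases centralAt_of_commute hz hn hc.1 hcomm hx with h | h
    · exact absurd (fix c hc hcomm (h x (rel_refl x))) hne
    · exact h x (rel_refl x)
  obtain ⟨a, ha, hane, hac⟩ := exists_central hz hAB hA
  obtain ⟨b, hb, hbne, hbc⟩ := exists_central hz (split_symm hAB) hB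
  have e : a⁻¹ * b = 1 := by
    refine fix _ (mul_mem (inv_mem (hAB.left ha)) (hAB.right hb)) (fun p hp u => ?_) ?_
    · apply a.injective
      rw [Perm.mul_apply, Perm.mul_apply, hbc p hp, hac p hp]
      simp
    · rw [Perm.mul_apply, mv b (hAB.right hb) hbc hbne, Perm.inv_eq_iff_eq,
        mv a (hAB.left ha) hac hane]
  have hab : a = b := inv_mul_eq_one.mp e
  exact hane ((Subgroup.eq_bot_iff_forall _).mp hAB.inf a ⟨ha, hab ▸ hb⟩)

theorem no_split_many (hn : 4 ≤ Fintype.card α) (hsmall : ∀ x, z x ≠ x → Big T z x)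
    {x₁ x₂ : α} (hx₁ : Big T z x₁) (hx₂ : Big T z x₂) (h12 : ¬ Rel T x₁ x₂)
    {A B : Subgroup (Perm α)} (hAB : Split T A B) (hA : A ≠ ⊥) (hB : B ≠ ⊥) : False := by
  classical
  have htwo : ∀ x, Big T z x → ∃ w, z w ≠ w ∧ ¬ Rel T x w := by
    intro x _
    by_cases h : Rel T x x₁
    · exact ⟨x₂, hx₂.1, fun h' => h12 (rel_trans (rel_symm h) h')⟩
    · exact ⟨x₁, hx₁.1, h⟩
  let U : α → Prop := fun x => Big T z x ∧ ∀ a ∈ A, CentralAt T z a x
  have hU : ∀ a b, Rel T a b → U a → U b := fun a b h hu =>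
    ⟨big_of_rel hz h hu.1, fun c hc => centralAt_rel h (hu.2 c hc)⟩
  have hnU : ∀ a b, Rel T a b → ¬ U a → ¬ U b := fun a b h hu hb => hu (hU b a (rel_symm h) hb)
  have hBc : ∀ x, Big T z x → ¬ U x → ∀ b ∈ B, CentralAt T z b x := by
    intro x hx hnu
    obtain ⟨w, hw, hxw⟩ := htwo x hx
    exact (dichotomy hz hAB hn hx hw hxw).resolve_left fun h => hnu ⟨hx, h⟩
  by_cases hall : ∀ x, Big T z x → U x
  · exact hA (eq_bot_of_central hz hAB hn hsmall htwo fun a ha x hx => (hall x hx).2 a ha)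
  by_cases hnone : ∀ x, Big T z x → ¬ U x
  · exact hB (eq_bot_of_central hz (split_symm hAB) hn hsmall htwo fun b hb x hx => hBc x hx (hnone x hx) b hb)
  push Not at hall hnone
  obtain ⟨w, hw, hwU⟩ := hall
  obtain ⟨x, hx, hxU⟩ := hnone
  -- the sign of the restriction to `U`
  have hsA : ∀ a ∈ A, ∀ h ∈ (T : Subgroup (Perm α)), (∀ v, U v → h v = a v) → (∀ v, ¬ U v → h v = v) →
      sign h = 1 := by
    intro a ha h _ h1 h2
    refine sign_central hz (fun y => ?_) (fun y hy => ?_)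
    · by_cases hy : U y
      · rw [h1 y hy]
        exact (hy.2 a ha).imp (fun e => e y (rel_refl y)) fun e => e y (rel_refl y)
      · exact Or.inl (h2 y hy)
    · have hyU : U y := by by_contra h'; exact hy (h2 y h')
      refine ⟨hyU.1, fun u hu => ?_⟩
      rw [h1 y hyU] at hy
      rw [h1 u (hU y u hu hyU)]
      rcases hyU.2 a ha with e | e
      · exact absurd (e y (rel_refl y)) hy
      · rw [e u hu]; exact fun e' => hyU.1.1 ((z_move_iff hz hu).mp e')
  have hsB : ∀ b ∈ B, ∀ h ∈ (T : Subgroup (Perm α)), (∀ v, U v → h v = b v) → (∀ v, ¬ U v → h v = v) →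
      sign h = 1 := by
    intro b hb h hh h1 h2
    have hbT := mem_T_right hz hAB hb
    have key : sign (h⁻¹ * b) = 1 := by
      have g1 : ∀ v, U v → (h⁻¹ * b) v = v := fun v hv => by
        rw [Perm.mul_apply, Perm.inv_eq_iff_eq, h1 v hv]
      have g2 : ∀ v, ¬ U v → (h⁻¹ * b) v = b v := fun v hv => by
        rw [Perm.mul_apply, Perm.inv_eq_iff_eq, h2 _ (hnU v _ (rel_apply hbT v) hv)]
      refine sign_central hz (fun y => ?_) (fun y hy => ?_)
      · by_cases hy : U y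
        · exact Or.inl (g1 y hy)
        · rw [g2 y hy]
          by_cases hzy : z y = y
          · exact Or.inl (apply_fixed hz hbT hzy)
          · exact (hBc y (hsmall y hzy) hy b hb).imp (fun e => e y (rel_refl y)) fun e => e y (rel_refl y)
      · have hyU : ¬ U y := fun h' => hy (g1 y h')
        rw [g2 y hyU] at hy
        have hzy : z y ≠ y := fun e => hy (apply_fixed hz hbT e)
        refine ⟨hsmall y hzy, fun u hu => ?_⟩
        rw [g2 u (hnU y u hu hyU)]
        rcases hBc y (hsmall y hzy) hyU b hb with e | e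
        · exact absurd (e y (rel_refl y)) hy
        · rw [e u hu]; exact fun e' => hzy ((z_move_iff hz hu).mp e')
    rw [map_mul, (mem_evenPart.mp (hAB.right hb)).2, mul_one, map_inv, inv_eq_one] at key
    exact key
  obtain ⟨a, ha, b, hb, hab⟩ := hAB.gen _ (dswap_mem hz hx.1 hw.1)
  obtain ⟨ha', hha', ha1, ha2⟩ := exists_restrict (mem_T_left hz hAB ha) U hU
  obtain ⟨hb', hhb', hb1, hb2⟩ := exists_restrict (mem_T_right hz hAB hb) U hU
  have e : ha' * hb' = swap x (z x) := by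
    refine Perm.ext fun v => ?_
    by_cases hv : U v
    · have h1 : v ≠ w := fun e => hwU (e ▸ hv)
      have h2 : v ≠ z w := fun e => hnU w _ (rel_z hz w) hwU (e ▸ hv)
      rw [Perm.mul_apply, hb1 v hv, ha1 _ (hU v _ (rel_apply (mem_T_right hz hAB hb) v) hv), ← Perm.mul_apply, hab,
        dswap, Perm.mul_apply, swap_pair_fix hz h1 h2]
    · rw [Perm.mul_apply, hb2 v hv, ha2 v hv,
        swap_pair_fix hz (fun e : v = x => hv (e ▸ hxU)) (fun e : v = z x => hv (e ▸ hU x _ (rel_z hz x) hxU))]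
  have hs := congrArg sign e
  rw [map_mul, hsA a ha _ hha' ha1 ha2, hsB b hb _ hhb' hb1 hb2, sign_swap hx.1.symm] at hs
  exact absurd hs (by decide)

theorem exists_split {a x y : α} (ha : z a ≠ a) (ha' : ¬ Big T z a) (hx : Big T z x) (hy : Big T z y)
    (hxy : ¬ Rel T x y) :
    ∃ S₁ S₂ : Subgroup (Perm α), S₁ ≠ ⊥ ∧ S₂ ≠ ⊥ ∧ Cfsg.IsInternalDirectProduct S₁ S₂ (evenPart T) := by
  classical
  have hpair : ∀ g ∈ (T : Subgroup (Perm α)), g a = a ∨ g a = z a := fun g hg => by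
    by_contra h
    push Not at h
    exact ha' ⟨ha, g a, rel_apply hg a, h.1, h.2⟩
  let S₁ : Subgroup (Perm α) :=
    { carrier := {p | p ∈ evenPart T ∧ ∀ v, Big T z v → ¬ Rel T x v → p v = v}
      one_mem' := ⟨one_mem _, fun v _ _ => rfl⟩
      mul_mem' := fun {p q} hp hq => ⟨mul_mem hp.1 hq.1, fun v h1 h2 => by
        rw [Perm.mul_apply, hq.2 v h1 h2, hp.2 v h1 h2]⟩
      inv_mem' := fun {p} hp => ⟨inv_mem hp.1, fun v h1 h2 => by rw [Perm.inv_eq_iff_eq, hp.2 v h1 h2]⟩ }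
  let S₂ : Subgroup (Perm α) :=
    { carrier := {p | p ∈ evenPart T ∧ ∀ v, Rel T x v → p v = v}
      one_mem' := ⟨one_mem _, fun v _ => rfl⟩
      mul_mem' := fun {p q} hp hq => ⟨mul_mem hp.1 hq.1, fun v h1 => by
        rw [Perm.mul_apply, hq.2 v h1, hp.2 v h1]⟩
      inv_mem' := fun {p} hp => ⟨inv_mem hp.1, fun v h1 => by rw [Perm.inv_eq_iff_eq, hp.2 v h1]⟩ }
  have hax : ∀ v, Big T z v → v ≠ a ∧ v ≠ z a := fun v hv =>
    ⟨fun e => ha' (e ▸ hv), fun e => ha' (big_of_rel hz (rel_symm (rel_z hz a)) (e ▸ hv))⟩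
  have hne1 : S₁ ≠ ⊥ := by
    intro h
    have hmem : dswap z x a ∈ S₁ := ⟨dswap_mem hz hx.1 ha, fun v hv hnr => by
      rw [dswap, Perm.mul_apply, swap_pair_fix hz (hax v hv).1 (hax v hv).2,
        swap_pair_fix hz (fun e : v = x => hnr (e ▸ rel_refl v)) (fun e => hnr (e ▸ rel_z hz x))]⟩
    have := Perm.congr_fun ((Subgroup.eq_bot_iff_forall _).mp h _ hmem) x
    rw [dswap, Perm.mul_apply, swap_pair_fix hz (hax x hx).1 (hax x hx).2, swap_apply_left] at this
    exact hx.1 this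
  have hne2 : S₂ ≠ ⊥ := by
    intro h
    have hmem : dswap z y a ∈ S₂ := ⟨dswap_mem hz hy.1 ha, fun v hv => by
      rw [dswap, Perm.mul_apply, swap_pair_fix hz (hax v (big_of_rel hz hv hx)).1 (hax v (big_of_rel hz hv hx)).2,
        swap_pair_fix hz (fun e : v = y => hxy (e ▸ hv)) (fun e : v = z y => hxy (rel_trans (e ▸ hv : Rel T x (z y)) (rel_symm (rel_z hz y))))]⟩
    have := Perm.congr_fun ((Subgroup.eq_bot_iff_forall _).mp h _ hmem) y
    rw [dswap, Perm.mul_apply, swap_pair_fix hz (hax y hy).1 (hax y hy).2, swap_apply_left] at this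
    exact hy.1 this
  refine ⟨S₁, S₂, hne1, hne2, fun p hp => hp.1, fun p hp => hp.1, fun p hp q hq => Perm.ext fun v => ?_, ?_, ?_⟩
  · rw [Perm.mul_apply, Perm.mul_apply]
    have hpT := hp.1.1
    have hqT := hq.1.1
    by_cases hzv : z v = v
    · rw [apply_fixed hz hqT hzv, apply_fixed hz hpT hzv, apply_fixed hz hqT hzv]
    by_cases hv : Big T z v
    · by_cases hr : Rel T x v
      · rw [hq.2 v hr, hq.2 _ (rel_trans hr (rel_apply hpT v))]
      · rw [hp.2 v hv hr, hp.2 _ (big_of_rel hz (rel_apply hqT v) hv)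
          (fun h => hr (rel_trans h (rel_symm (rel_apply hqT v))))]
    have key : p (q a) = q (p a) := by
      rcases hpair p hpT with h1 | h1 <;> rcases hpair q hqT with h2 | h2
      · rw [h2, h1, h2]
      · rw [h2, z_comm hz hpT, h1, h2]
      · rw [h2, h1, z_comm hz hqT, h2]
      · rw [h2, z_comm hz hpT, h1, z_comm hz hqT, h2]
    rcases small_unique hz ha ha' hzv hv with h | h
    · rw [h]; exact key
    · rw [h, z_comm hz hqT, z_comm hz hpT, z_comm hz hpT, z_comm hz hqT, key]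
  · refine (Subgroup.eq_bot_iff_forall _).mpr fun p hp => ?_
    refine eq_one_of_fix_bigs hz hp.1.1 fun v hv => ?_
    by_cases hr : Rel T x v
    · exact hp.2.2 v hr
    · exact hp.1.2 v hv hr
  · refine le_antisymm (sup_le (fun p hp => hp.1) fun p hp => hp.1) fun p hp => ?_
    obtain ⟨k, hk, hk1, hk2⟩ := exists_restrict (mem_evenPart.mp hp).1 (Rel T x) (fun u v h h' => rel_trans h' h)
    obtain ⟨p₁, hp₁, hp1a⟩ : ∃ p₁ ∈ S₁, ∀ v, Rel T x v → p₁ v = p v := by
      rcases Int.units_eq_one_or (sign k) with hs | hs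
      · exact ⟨k, ⟨mem_evenPart.mpr ⟨hk, hs⟩, fun v _ hr => hk2 v hr⟩, hk1⟩
      · refine ⟨k * swap a (z a), ⟨mem_evenPart.mpr ⟨mul_mem hk (hz.swap_mem a), ?_⟩, fun v hv hr => ?_⟩,
          fun v hr => ?_⟩
        · rw [map_mul, hs, sign_swap ha.symm]; rfl
        · rw [Perm.mul_apply, swap_pair_fix hz (hax v hv).1 (hax v hv).2, hk2 v hr]
        · rw [Perm.mul_apply, swap_pair_fix hz (hax v (big_of_rel hz hr hx)).1 (hax v (big_of_rel hz hr hx)).2,
            hk1 v hr]
    have : p₁⁻¹ * p ∈ S₂ := ⟨mul_mem (inv_mem hp₁.1) hp, fun v hr => by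
      rw [Perm.mul_apply, Perm.inv_eq_iff_eq, hp1a v hr]⟩
    have e : p = p₁ * (p₁⁻¹ * p) := by group
    rw [e]
    exact Subgroup.mul_mem_sup hp₁ this

/-- the criterion -/
theorem evenPart_decomposable_iff (hn : 6 ≤ Fintype.card α) :
    (∃ S₁ S₂ : Subgroup (Perm α), S₁ ≠ ⊥ ∧ S₂ ≠ ⊥ ∧ Cfsg.IsInternalDirectProduct S₁ S₂ (evenPart T)) ↔
      ((Fintype.card α % 4 = 2 ∨ Fintype.card α % 4 = 3) ∧ ∀ r : ℕ, 4 * (Fintype.card α / 4) ≠ 2 ^ r) := by
  have hcb := card_bigs hz
  constructor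
  · rintro ⟨S₁, S₂, h1, h2, h⟩
    have hsp := split_of_product h
    by_cases hone : ∀ x y, Big T z x → Big T z y → Rel T x y
    · exact (no_split_one hz hn hone hsp h1 h2).elim
    push Not at hone
    obtain ⟨x, y, hx, hy, hxy⟩ := hone
    refine ⟨?_, fun r hr => hxy (big_transitive hz hr hx hy)⟩
    by_contra hcon
    exact no_split_many hz (by omega)
      (fun v hv => by by_contra h'; have := hcb.2.mp ⟨v, hv, h'⟩; omega) hx hy hxy hsp h1 h2
  · rintro ⟨h23, hpow⟩
    obtain ⟨a, ha, ha'⟩ := hcb.2.mpr (by omega)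
    obtain ⟨x, hx⟩ := exists_big hz (by omega)
    obtain ⟨j, hj⟩ := card_orb (T := T) x
    obtain ⟨y, hy, hyn⟩ : ∃ y ∈ bigs T z, y ∉ orb T x := by
      by_contra h
      push Not at h
      have e : bigs T z = orb T x := Finset.Subset.antisymm h
        fun v hv => mem_bigs.mpr (big_of_rel hz (mem_orb.mp hv) hx)
      rw [← e, hcb.1] at hj
      exact hpow j hj
    exact exists_split hz ha ha' hx (mem_bigs.mp hy) fun h => hyn (mem_orb.mpr h)

end CfsgLib.AltSylowDecomp
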