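import Mathlib
import Cfsg.Agent.Lib.AltMax.SylowTwo
import Cfsg.Agent.Lib.SymTwo.SylowTwo

/-!
# The orbits of a Sylow 2-subgroup of a symmetric group
-/

set_option autoImplicit false
set_option linter.unusedSectionVars false

namespace CfsgLib.AltSylowDecomp

open Equiv Equiv.Perm

variable {α : Type*} [Fintype α] [DecidableEq α]

/-- the data attached to a Sylow 2-subgroup: it centralises `z` and contains the transpositions of the pairs of `z` -/
structure Pairing (T : Sylow 2 (Perm α)) (z : Perm α) : Prop where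
  sq : z * z = 1
  cent : (T : Subgroup (Perm α)) ≤ Subgroup.centralizer {z}
  supp : z.support.card = 2 * (Fintype.card α / 2)
  swap_mem : ∀ a, swap a (z a) ∈ (T : Subgroup (Perm α))

theorem exists_pairing' (T : Sylow 2 (Perm α)) : ∃ z, Pairing T z := by
  obtain ⟨z, h1, h2, h3, h4⟩ := AltMax.exists_pairing T
  exact ⟨z, h1, h2, h3, h4⟩

/-- `b` is in the orbit of `a` -/
def Rel (T : Sylow 2 (Perm α)) (a b : α) : Prop := ∃ g ∈ (T : Subgroup (Perm α)), g a = b

/-- the orbit of `x` has more than one pair -/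
def Big (T : Sylow 2 (Perm α)) (z : Perm α) (x : α) : Prop := z x ≠ x ∧ ∃ y, Rel T x y ∧ y ≠ x ∧ y ≠ z x

section
variable {T : Sylow 2 (Perm α)} {z : Perm α}

theorem rel_refl (a : α) : Rel T a a := ⟨1, one_mem _, rfl⟩

theorem rel_symm {a b : α} (h : Rel T a b) : Rel T b a := by
  obtain ⟨g, hg, rfl⟩ := h
  exact ⟨g⁻¹, inv_mem hg, by simp⟩

theorem rel_trans {a b c : α} (h : Rel T a b) (h' : Rel T b c) : Rel T a c := by
  obtain ⟨g, hg, rfl⟩ := h
  obtain ⟨k, hk, rfl⟩ := h'
  exact ⟨k * g, mul_mem hk hg, rfl⟩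

theorem rel_apply {g : Perm α} (hg : g ∈ (T : Subgroup (Perm α))) (a : α) : Rel T a (g a) := ⟨g, hg, rfl⟩

/-- a permutation that agrees on each orbit with some element of `T` is in `T` -/
theorem mem_of_local (T : Sylow 2 (Perm α)) {g : Perm α}
    (h : ∀ a, ∃ t ∈ (T : Subgroup (Perm α)), ∀ b, Rel T a b → g b = t b) : g ∈ (T : Subgroup (Perm α)) := by
  haveI : Fact (Nat.Prime 2) := ⟨Nat.prime_two⟩
  let R : Subgroup (Perm α) :=
    { carrier := {g | ∀ a, ∃ t ∈ (T : Subgroup (Perm α)), ∀ b, Rel T a b → g b = t b}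
      one_mem' := fun a => ⟨1, one_mem _, fun b _ => rfl⟩
      mul_mem' := fun {g k} hg hk a => by
        obtain ⟨t, ht, het⟩ := hk a
        obtain ⟨s, hs, hes⟩ := hg a
        refine ⟨s * t, mul_mem hs ht, fun b hb => ?_⟩
        rw [Perm.mul_apply, Perm.mul_apply, het b hb]
        exact hes _ (rel_trans hb (rel_apply ht b))
      inv_mem' := fun {g} hg a => by
        obtain ⟨t, ht, het⟩ := hg a
        refine ⟨t⁻¹, inv_mem ht, fun b hb => ?_⟩
        rw [Perm.inv_eq_iff_eq, het _ (rel_trans hb (rel_apply (inv_mem ht) b))]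
        simp }
  obtain ⟨N, hN⟩ := IsPGroup.iff_card.mp T.isPGroup'
  have hR : IsPGroup 2 R := by
    intro x
    refine ⟨N, Subtype.ext (Perm.ext fun a => ?_)⟩
    obtain ⟨t, ht, het⟩ := x.2 a
    have key : ∀ (j : ℕ) (b : α), Rel T a b → ((x : Perm α) ^ j) b = (t ^ j) b := by
      intro j
      induction j with
      | zero => intro b _; rfl
      | succ j ih =>
        intro b hb
        rw [pow_succ, pow_succ, Perm.mul_apply, Perm.mul_apply, het b hb,
          ih _ (rel_trans hb (rel_apply ht b))]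
    have h1 : (⟨t, ht⟩ : (T : Subgroup (Perm α))) ^ 2 ^ N = 1 := by rw [← hN]; exact pow_card_eq_one'
    have h2 : t ^ 2 ^ N = 1 := congrArg Subtype.val h1
    show ((x : Perm α) ^ 2 ^ N) a = a
    rw [key _ a (rel_refl a), h2, Perm.one_apply]
  have hle : (T : Subgroup (Perm α)) ≤ R := fun t ht a => ⟨t, ht, fun b _ => rfl⟩
  rw [← T.3 hR hle]
  exact h

/-- restriction of an element of `T` to a union of orbits -/
theorem exists_restrict {g : Perm α} (hg : g ∈ (T : Subgroup (Perm α))) (U : α → Prop)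
    (hU : ∀ a b, Rel T a b → U a → U b) :
    ∃ h ∈ (T : Subgroup (Perm α)), (∀ a, U a → h a = g a) ∧ ∀ a, ¬ U a → h a = a := by
  classical
  have hiff : ∀ a, U (g a) ↔ U a :=
    fun a => ⟨hU _ _ (rel_symm (rel_apply hg a)), hU _ _ (rel_apply hg a)⟩
  refine ⟨Perm.ofSubtype (g.subtypePerm (p := U) hiff), ?_, fun a ha => ?_, fun a ha => ?_⟩
  · refine mem_of_local T fun a => ?_
    by_cases ha : U a
    · exact ⟨g, hg, fun b hb => by rw [Perm.ofSubtype_apply_of_mem _ (hU a b hb ha)]; rfl⟩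
    · exact ⟨1, one_mem _, fun b hb =>
        Perm.ofSubtype_apply_of_not_mem _ fun hb' => ha (hU b a (rel_symm hb) hb')⟩
  · rw [Perm.ofSubtype_apply_of_mem _ ha]; rfl
  · exact Perm.ofSubtype_apply_of_not_mem _ ha

variable (hz : Pairing T z)
include hz

theorem z_z (a : α) : z (z a) = a := Perm.congr_fun hz.sq a

theorem z_comm {g : Perm α} (hg : g ∈ (T : Subgroup (Perm α))) (a : α) : g (z a) = z (g a) :=
  Perm.congr_fun (Subgroup.mem_centralizer_singleton_iff.mp (hz.cent hg)) a

theorem z_mem : z ∈ (T : Subgroup (Perm α)) := by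
  refine SymTwo.sylow_two_perm_normalizer_le T (Subgroup.mem_normalizer_iff.mpr fun x => ?_)
  have key : ∀ y ∈ (T : Subgroup (Perm α)), z * y * z⁻¹ = y := fun y hy => by
    rw [← Subgroup.mem_centralizer_singleton_iff.mp (hz.cent hy)]; group
  have hinv : z⁻¹ = z := inv_eq_of_mul_eq_one_right hz.sq
  refine ⟨fun hx => by show z * x * z⁻¹ ∈ _; rw [key x hx]; exact hx, fun hx => ?_⟩
  have hx' := key _ hx
  have : z * (z * x * z⁻¹) * z⁻¹ = x := by
    rw [hinv]; simp [mul_assoc, ← mul_assoc z z, hz.sq]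
  rw [hx'] at this
  rw [← this]; exact hx

theorem rel_z (a : α) : Rel T a (z a) := rel_apply (z_mem hz) a

theorem z_move_iff {a b : α} (h : Rel T a b) : z b = b ↔ z a = a := by
  obtain ⟨g, hg, rfl⟩ := h
  rw [← z_comm hz hg, g.injective.eq_iff]

theorem fixed_unique {a b : α} (ha : z a = a) (hb : z b = b) : a = b := by
  have hc : z.supportᶜ.card ≤ 1 := by
    rw [Finset.card_compl, hz.supp]; omega
  exact Finset.card_le_one.mp hc a (by simpa using ha) b (by simpa using hb)

theorem exists_fixed_iff : (∃ a, z a = a) ↔ Odd (Fintype.card α) := by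
  have h := Finset.card_compl z.support
  rw [hz.supp] at h
  constructor
  · rintro ⟨a, ha⟩
    have : 0 < z.supportᶜ.card := Finset.card_pos.mpr ⟨a, by simpa using ha⟩
    rw [Nat.odd_iff]; omega
  · intro hodd
    rw [Nat.odd_iff] at hodd
    obtain ⟨a, ha⟩ : z.supportᶜ.Nonempty := Finset.card_pos.mp (by omega)
    exact ⟨a, by simpa using ha⟩

theorem big_of_rel {a b : α} (h : Rel T a b) (ha : Big T z a) : Big T z b := by
  obtain ⟨hma, y, hy, hy1, hy2⟩ := ha
  refine ⟨fun e => hma ((z_move_iff hz h).mp e), ?_⟩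
  by_cases hb : b = a ∨ b = z a
  · refine ⟨y, rel_trans (rel_symm h) hy, ?_, ?_⟩
    · rcases hb with rfl | rfl
      · exact hy1
      · exact hy2
    · rcases hb with rfl | rfl
      · exact hy2
      · rw [z_z hz]; exact hy1
  · push Not at hb
    exact ⟨a, rel_symm h, hb.1.symm, fun e => hb.2 (by rw [e, z_z hz])⟩

/-- at most one orbit is a single pair -/
theorem small_unique {a b : α} (ha : z a ≠ a) (ha' : ¬ Big T z a) (hb : z b ≠ b) (hb' : ¬ Big T z b) :
    b = a ∨ b = z a := by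
  have hsa : ∀ y, Rel T a y → y = a ∨ y = z a := fun y hy => by
    by_contra h; push Not at h; exact ha' ⟨ha, y, hy, h.1, h.2⟩
  have hsb : ∀ y, Rel T b y → y = b ∨ y = z b := fun y hy => by
    by_contra h; push Not at h; exact hb' ⟨hb, y, hy, h.1, h.2⟩
  by_contra hcon
  push Not at hcon
  obtain ⟨hba, hbza⟩ := hcon
  have hab' : a ≠ z b := fun e => hbza (by rw [e, z_z hz])
  have hzz : z a ≠ z b := fun e => hba (z.injective e).symm
  set σ := swap a b * swap (z a) (z b) with hσ
  have s1 : σ a = b := by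
    rw [hσ, Perm.mul_apply, swap_apply_of_ne_of_ne (Ne.symm ha) hab', swap_apply_left]
  have s2 : σ b = a := by
    rw [hσ, Perm.mul_apply, swap_apply_of_ne_of_ne hbza (Ne.symm hb), swap_apply_right]
  have s3 : σ (z a) = z b := by
    rw [hσ, Perm.mul_apply, swap_apply_left, swap_apply_of_ne_of_ne hab'.symm hb]
  have s4 : σ (z b) = z a := by
    rw [hσ, Perm.mul_apply, swap_apply_right, swap_apply_of_ne_of_ne ha hbza.symm]
  have s0 : ∀ y, y ≠ a → y ≠ z a → y ≠ b → y ≠ z b → σ y = y := fun y h1 h2 h3 h4 => by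
    rw [hσ, Perm.mul_apply, swap_apply_of_ne_of_ne h2 h4, swap_apply_of_ne_of_ne h1 h3]
  have hσσ : σ * σ = 1 := by
    refine Perm.ext fun y => ?_
    rw [Perm.mul_apply, Perm.one_apply]
    by_cases h1 : y = a
    · rw [h1, s1, s2]
    by_cases h2 : y = z a
    · rw [h2, s3, s4]
    by_cases h3 : y = b
    · rw [h3, s2, s1]
    by_cases h4 : y = z b
    · rw [h4, s4, s3]
    rw [s0 y h1 h2 h3 h4, s0 y h1 h2 h3 h4]
  have hinv : σ⁻¹ = σ := inv_eq_of_mul_eq_one_right hσσ
  have hconj : ∀ g ∈ (T : Subgroup (Perm α)), σ * g * σ ∈ (T : Subgroup (Perm α)) := by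
    intro g hg
    have hsmall : ∀ c c' : α, (∀ y, Rel T c' y → y = c' ∨ y = z c') → σ c = c' → σ (z c) = z c' →
        σ c' = c → σ (z c') = z c → ∀ v, (v = c ∨ v = z c) →
        ∃ t ∈ (T : Subgroup (Perm α)), ∀ y, (y = c ∨ y = z c) → (σ * g * σ) y = t y := by
      intro c c' hc' e1 e2 e3 e4 v _
      have hgz := z_comm hz hg c'
      rcases hc' _ (rel_apply hg c') with h | h
      · refine ⟨1, one_mem _, fun y hy => ?_⟩
        rcases hy with rfl | rfl
        · rw [Perm.mul_apply, Perm.mul_apply, e1, h, e3]; rfl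
        · rw [Perm.mul_apply, Perm.mul_apply, e2, hgz, h, e4]; rfl
      · refine ⟨swap c (z c), hz.swap_mem c, fun y hy => ?_⟩
        rcases hy with rfl | rfl
        · rw [Perm.mul_apply, Perm.mul_apply, e1, h, e4, swap_apply_left]
        · rw [Perm.mul_apply, Perm.mul_apply, e2, hgz, h, z_z hz, e3, swap_apply_right]
    refine mem_of_local T fun v => ?_
    by_cases hva : Rel T a v
    · obtain ⟨t, ht, he⟩ := hsmall a b hsb s1 s3 s2 s4 v (hsa v hva)
      exact ⟨t, ht, fun y hy => he y (hsa y (rel_trans hva hy))⟩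
    by_cases hvb : Rel T b v
    · obtain ⟨t, ht, he⟩ := hsmall b a hsa s2 s4 s1 s3 v (hsb v hvb)
      exact ⟨t, ht, fun y hy => he y (hsb y (rel_trans hvb hy))⟩
    refine ⟨g, hg, fun y hy => ?_⟩
    have key : ∀ u, Rel T v u → σ u = u := by
      intro u hu
      apply s0
      · exact fun e => hva (rel_symm (e ▸ hu))
      · exact fun e => hva (rel_trans (rel_z hz a) (rel_symm (e ▸ hu)))
      · exact fun e => hvb (rel_symm (e ▸ hu))
      · exact fun e => hvb (rel_trans (rel_z hz b) (rel_symm (e ▸ hu)))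
    rw [Perm.mul_apply, Perm.mul_apply, key y hy, key _ (rel_trans hy (rel_apply hg y))]
  have hmem : σ ∈ (T : Subgroup (Perm α)) := by
    refine SymTwo.sylow_two_perm_normalizer_le T (Subgroup.mem_normalizer_iff.mpr fun x => ⟨fun hx => ?_, fun hx => ?_⟩)
    · show σ * x * σ⁻¹ ∈ _
      rw [hinv]; exact hconj x hx
    · have h := hconj _ hx
      rw [hinv] at h
      have e : σ * (σ * x * σ) * σ = x := by
        simp only [mul_assoc, hσσ, mul_one]
        rw [← mul_assoc σ σ, hσσ, one_mul]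
      rwa [e] at h
  rcases hsa b ⟨σ, hmem, s1⟩ with h | h
  · exact hba h
  · exact hbza h

end

end CfsgLib.AltSylowDecomp
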